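import Groth.Agent.Lib.Ample.CocPullback
import Groth.Agent.Lib.Ample.Frame
import Groth.Agent.Lib.InvExt.FiniteFibre
import Mathlib.AlgebraicGeometry.Morphisms.Finite
import Mathlib.AlgebraicGeometry.Morphisms.QuasiFinite

/-! # Descending invertible modules along finite morphisms -/

set_option backward.isDefEq.respectTransparency false

universe u

open AlgebraicGeometry CategoryTheory CategoryTheory.Limits TopologicalSpace Opposite
open GrothLib.InvExt (mres fres IsGen)
open GrothLib.Ample (Cocycle res)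

noncomputable section

namespace GrothLib.PicDesc

variable {X Y : Scheme.{u}} (f : X ⟶ Y) {L : X.Modules}

/-- Frames on the preimages of a cocycle's pieces with the pulled-back transition functions. -/
theorem exists_descend (c : Cocycle Y) (e : ∀ i, Γ(L, f ⁻¹ᵁ c.D i))
    (he : ∀ i, IsGen L (f ⁻¹ᵁ c.D i) (e i))
    (hch : ∀ i k, mres L (f.preimage_mono (inf_le_right : c.D i ⊓ c.D k ≤ c.D k)) (e k) =
      (f.app (c.D i ⊓ c.D k)).hom (c.g i k) •
        mres L (f.preimage_mono (inf_le_left : c.D i ⊓ c.D k ≤ c.D i)) (e i)) :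
    ∃ N : Y.Modules, PicF.IsInvertible N ∧ Nonempty ((Scheme.Modules.pullback f).obj N ≅ L) := by
  have hm : (c.comap f).IsFamily 1 e := by
    intro (i : c.ι) (k : c.ι) W (hi : W ≤ f ⁻¹ᵁ c.D i) (hk : W ≤ f ⁻¹ᵁ c.D k)
    have h1 := congrArg (mres L (le_inf hi hk : W ≤ f ⁻¹ᵁ (c.D i ⊓ c.D k))) (hch i k)
    rw [InvExt.mres_mres, InvExt.mres_smul, InvExt.mres_mres] at h1
    rw [pow_one, c.comap_G, Scheme.Hom.appLE]
    exact h1
  haveI := (c.comap f).isIso_homOfFamily hm he
  exact ⟨c.twist 1, c.isInvertible_twist 1,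
    ⟨(c.nonempty_pullback_twist f 1).some ≪≫ asIso ((c.comap f).homOfFamily hm)⟩⟩

/-- An invertible module has a frame over the preimage of a neighbourhood of any point. -/
theorem exists_frame_over [IsFinite f] (hL : PicF.IsInvertible L) (y : Y) :
    ∃ (D : Y.Opens) (e : Γ(L, f ⁻¹ᵁ D)), y ∈ D ∧ IsGen L (f ⁻¹ᵁ D) e := by
  obtain ⟨U, hU, hyU, -⟩ := exists_isAffineOpen_mem_and_subset (x := y) (U := ⊤) trivial
  have hfin : (f ⁻¹' {y}).Finite := f.finite_preimage_singleton y
  obtain ⟨W, s, hSW, hs⟩ := GrothLib.InvExt.exists_gen_nhd_of_finite hL (hU.preimage f) (f ⁻¹' {y}) hfin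
    (fun x hx => show f.base x ∈ U by rw [Set.mem_preimage, Set.mem_singleton_iff] at hx; rw [hx]; exact hyU)
    (fun a ha b hb hab => by
      have hd : DiscreteTopology (f ⁻¹' {y} : Set X) := (f.isDiscrete_preimage_singleton y).to_subtype
      exact congrArg Subtype.val ((subtype_specializes_iff ⟨a, ha⟩ ⟨b, hb⟩).mpr hab).eq)
  let D : Y.Opens := ⟨(f '' (W : Set X)ᶜ)ᶜ, (f.isClosedMap _ W.2.isClosed_compl).isOpen_compl⟩
  have hle : f ⁻¹ᵁ D ≤ W := fun x hx => by
    by_contra h
    exact hx ⟨x, h, rfl⟩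
  refine ⟨D, mres L hle s, fun h => ?_, hs.restrict hle⟩
  obtain ⟨x, hx, hxy⟩ := h
  exact hx (hSW hxy)

/-- Descent along a finite morphism which is an isomorphism off a discrete closed set. -/
theorem exists_of_iso_off_discrete [IsFinite f] (V : Y.Opens) (hV : IsIso (f ∣_ V))
    (hdisc : DiscreteTopology ((V : Set Y)ᶜ : Set Y)) (hL : PicF.IsInvertible L) :
    ∃ N : Y.Modules, PicF.IsInvertible N ∧ Nonempty ((Scheme.Modules.pullback f).obj N ≅ L) := by
  classical
  have hbij : ∀ W : Y.Opens, W ≤ V → Function.Bijective (f.app W).hom := by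
    intro W hW
    have e : V.ι ''ᵁ (V.ι ⁻¹ᵁ W) = W := by
      rw [Scheme.Hom.image_preimage_eq_opensRange_inf, Scheme.Opens.opensRange_ι, inf_eq_right.mpr hW]
    have h : IsIso ((f ∣_ V).app (V.ι ⁻¹ᵁ W)) := inferInstance
    rw [morphismRestrict_app] at h
    haveI := h
    have h2 : IsIso (f.app (V.ι ''ᵁ (V.ι ⁻¹ᵁ W))) :=
      IsIso.of_isIso_comp_right (f.app _)
        (X.presheaf.map (eqToHom (image_morphismRestrict_preimage f V (V.ι ⁻¹ᵁ W))).op)
    rw [e] at h2
    exact ConcreteCategory.bijective_of_isIso _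
  have hfin : ∀ y : Y, ∃ (D : Y.Opens) (e : Γ(L, f ⁻¹ᵁ D)), y ∈ D ∧ IsGen L (f ⁻¹ᵁ D) e ∧
      ∀ z ∈ D, z ∈ V ∨ z = y := by
    intro y
    obtain ⟨D, e, hy, he⟩ := exists_frame_over f hL y
    by_cases hyV : y ∈ V
    · exact ⟨D ⊓ V, mres L (f.preimage_mono inf_le_left) e, ⟨hy, hyV⟩, he.restrict _, fun z hz => Or.inl hz.2⟩
    · obtain ⟨O, hO, hOy⟩ := isOpen_induced_iff.mp (isOpen_discrete ({⟨y, hyV⟩} : Set ((V : Set Y)ᶜ : Set Y)))
      refine ⟨D ⊓ ⟨O, hO⟩, mres L (f.preimage_mono inf_le_left) e,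
        ⟨hy, show (⟨y, hyV⟩ : ((V : Set Y)ᶜ : Set Y)) ∈ Subtype.val ⁻¹' O by rw [hOy]; rfl⟩, he.restrict _,
        fun z hz => ?_⟩
      by_cases hzV : z ∈ V
      · exact Or.inl hzV
      · have : (⟨z, hzV⟩ : ((V : Set Y)ᶜ : Set Y)) ∈ Subtype.val ⁻¹' O := hz.2
        rw [hOy] at this
        exact Or.inr (congrArg Subtype.val (Set.mem_singleton_iff.mp this))
  choose D e hmem he hD using hfin
  have hle : ∀ i k : Y, i ≠ k → D i ⊓ D k ≤ V := fun i k hik z hz => by
    rcases hD i z hz.1 with h | h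
    · exact h
    · rcases hD k z hz.2 with h' | h'
      · exact h'
      · exact absurd (h.symm.trans h') hik
  have hg : ∀ i k : Y, ∃ g : Γ(Y, D i ⊓ D k),
      mres L (f.preimage_mono (inf_le_right : D i ⊓ D k ≤ D k)) (e k) =
        (f.app (D i ⊓ D k)).hom g • mres L (f.preimage_mono (inf_le_left : D i ⊓ D k ≤ D i)) (e i) ∧
      (i = k → g = 1) := by
    intro i k
    rcases eq_or_ne i k with rfl | hik
    · exact ⟨1, by rw [map_one, one_smul], fun _ => rfl⟩
    · obtain ⟨r, hr⟩ := (he i).exists_smul_eq (f.preimage_mono (inf_le_left : D i ⊓ D k ≤ D i))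
        (mres L (f.preimage_mono (inf_le_right : D i ⊓ D k ≤ D k)) (e k))
      obtain ⟨g, rfl⟩ := (hbij _ (hle i k hik)).2 r
      exact ⟨g, hr, fun h => absurd h hik⟩
  choose g hg hg1 using hg
  have hres : ∀ i k (W : Y.Opens) (hi : W ≤ D i) (hk : W ≤ D k),
      mres L (f.preimage_mono hk) (e k) =
        (f.app W).hom (res (le_inf hi hk) (g i k)) • mres L (f.preimage_mono hi) (e i) := by
    intro i k W hi hk
    have h := congrArg (mres L (f.preimage_mono (le_inf hi hk))) (hg i k)
    rw [InvExt.mres_mres, InvExt.mres_smul, InvExt.mres_mres] at h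
    refine h.trans (congrArg (· • _) ?_)
    exact (ConcreteCategory.congr_hom (f.naturality (homOfLE (le_inf hi hk)).op) (g i k)).symm
  let c : Cocycle Y :=
    { ι := Y
      D := D
      g := g
      cover := eq_top_iff.mpr fun y _ => Opens.mem_iSup.mpr ⟨y, hmem y⟩
      self := fun i W h => by rw [hg1 i i rfl, map_one]
      change := fun i j k W hi hj hk => by
        by_cases hall : i = j ∧ j = k
        · obtain ⟨rfl, rfl⟩ := hall
          simp only [hg1 i i rfl, map_one, mul_one]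
        · have hWV : W ≤ V := by
            rcases not_and_or.mp hall with h | h
            · exact (le_inf hi hj).trans (hle i j h)
            · exact (le_inf hj hk).trans (hle j k h)
          refine (hbij W hWV).1 ((he i).smul_left_injective (f.preimage_mono hi) ?_)
          rw [← hres i k W hi hk, map_mul, mul_comm, mul_smul, ← hres i j W hi hj]
          exact hres j k W hj hk }
  exact exists_descend f c e he hg

end GrothLib.PicDesc
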