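import Groth.Agent.Lib.PicDesc.Basic
import Groth.Agent.Lib.Euler.Vanish
import Groth.Agent.Lib.Ample.Coprod
import Mathlib.AlgebraicGeometry.Morphisms.ClosedImmersion

/-! # Descending invertible modules along finite morphisms to schemes of dimension one -/

set_option backward.isDefEq.respectTransparency false

universe u

open AlgebraicGeometry CategoryTheory CategoryTheory.Limits TopologicalSpace Opposite
open GrothLib.InvExt (mres fres IsGen)
open GrothLib.Ample (Cocycle res)

noncomputable section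

namespace GrothLib.PicDesc

variable {X Y : Scheme.{u}}

theorem subsingleton_sections_of_le_bot (L : X.Modules) {W : X.Opens} (h : W ≤ ⊥) : Subsingleton Γ(L, W) :=
  haveI := GrothLib.Ample.subsingleton_of_le_bot h
  Module.subsingleton Γ(X, W) Γ(L, W)

variable (f : X ⟶ Y)

theorem app_surjective_of_le {V W : Y.Opens} [IsClosedImmersion (f ∣_ V)] (hW : W ≤ V) (hWa : IsAffineOpen W) :
    Function.Surjective (f.app W).hom := by
  have e : V.ι ''ᵁ (V.ι ⁻¹ᵁ W) = W := by
    rw [Scheme.Hom.image_preimage_eq_opensRange_inf, Scheme.Opens.opensRange_ι, inf_eq_right.mpr hW]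
  have h := (f ∣_ V).app_surjective (V.ι ⁻¹ᵁ W) (hWa.preimage_of_isOpenImmersion V.ι (by simpa using hW))
  rw [morphismRestrict_app] at h
  have h2 : Function.Surjective (f.app (V.ι ''ᵁ (V.ι ⁻¹ᵁ W))).hom := fun z => by
    obtain ⟨w, hw⟩ := h ((X.presheaf.map (eqToHom (image_morphismRestrict_preimage f V (V.ι ⁻¹ᵁ W))).op) z)
    exact ⟨w, (ConcreteCategory.bijective_of_isIso _).1 hw⟩
  rw [e] at h2
  exact h2

/-- Near a point of `V` a unit upstairs lifts to a unit. -/
theorem exists_unit_lift [IsFinite f] {V O : Y.Opens} [IsClosedImmersion (f ∣_ V)] {η : Y} (hO : η ∈ O)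
    (hOV : O ≤ V) (r : Γ(X, f ⁻¹ᵁ O)) (hr : IsUnit r) :
    ∃ (O' : Y.Opens) (h : O' ≤ O) (t : Γ(Y, O')), η ∈ O' ∧ IsUnit t ∧
      (f.app O').hom t = res (f.preimage_mono h) r := by
  by_cases hη : η ∈ Set.range f
  · obtain ⟨O1, hO1, hη1, hle⟩ := exists_isAffineOpen_mem_and_subset (x := η) (U := O) hO
    obtain ⟨t, ht⟩ := app_surjective_of_le f ((show O1 ≤ O from hle).trans hOV) hO1 (res (f.preimage_mono hle) r)
    have hle' : Y.basicOpen t ≤ O := (Y.basicOpen_le t).trans hle
    refine ⟨Y.basicOpen t, hle', res (Y.basicOpen_le t) t, ?_,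
      RingedSpace.isUnit_res_basicOpen _ t, ?_⟩
    · obtain ⟨x, rfl⟩ := hη
      have h1 : x ∈ X.basicOpen ((f.app O1).hom t) := by
        rw [ht, Scheme.mem_basicOpen _ _ _ (show x ∈ f ⁻¹ᵁ O1 from hη1)]
        exact (hr.map _).map _
      rw [← Scheme.preimage_basicOpen] at h1
      exact h1
    · refine (ConcreteCategory.congr_hom (f.naturality (homOfLE (Y.basicOpen_le t)).op) t).trans ?_
      show res (f.preimage_mono (Y.basicOpen_le t)) ((f.app O1).hom t) = _
      rw [ht, Ample.res_res]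
  · have hcl : IsClosed (Set.range f) := f.isClosedMap.isClosed_range
    have hle : O ⊓ ⟨(Set.range f)ᶜ, hcl.isOpen_compl⟩ ≤ O := inf_le_left
    refine ⟨_, hle, 1, ⟨hO, hη⟩, isUnit_one, ?_⟩
    haveI := GrothLib.Ample.subsingleton_of_le_bot (X := X)
      (W := f ⁻¹ᵁ (O ⊓ ⟨(Set.range f)ᶜ, hcl.isOpen_compl⟩)) (fun x hx => (hx.2 ⟨x, rfl⟩).elim)
    exact Subsingleton.elim _ _

/-- Gluing units on a disjoint family. -/
theorem exists_glue_of_disjoint {ι : Type*} (W : ι → Y.Opens) (T : Y.Opens) (hle : ∀ i, W i ≤ T)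
    (hcov : T ≤ ⨆ i, W i) (hdisj : ∀ i j, i ≠ j → W i ⊓ W j ≤ ⊥) (t : ∀ i, Γ(Y, W i)) :
    ∃ s : Γ(Y, T), ∀ i, res (hle i) s = t i := by
  obtain ⟨s, hs, -⟩ := Y.sheaf.existsUnique_gluing' W T (fun i => homOfLE (hle i)) hcov t fun i j => by
    rcases eq_or_ne i j with rfl | h
    · rfl
    · haveI := GrothLib.Ample.subsingleton_of_le_bot (X := Y) (hdisj i j h)
      exact Subsingleton.elim (α := Γ(Y, W i ⊓ W j)) _ _
  exact ⟨s, hs⟩

/-- Descent along a finite morphism which is a closed immersion over a dense open of a scheme of dimension at most one. -/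
theorem exists_of_closedImmersion_over_dense [IsFinite f] [IsNoetherian Y] (hdim : topologicalKrullDim Y ≤ 1)
    (V : Y.Opens) (hV : Dense (V : Set Y)) [IsClosedImmersion (f ∣_ V)] {L : X.Modules} (hL : PicF.IsInvertible L) :
    ∃ N : Y.Modules, PicF.IsInvertible N ∧ Nonempty ((Scheme.Modules.pullback f).obj N ≅ L) := by
  classical
  let G := genericPoints (Y : Type u)
  have hGfin : G.Finite := genericPoints.finite NoetherianSpace.finite_irreducibleComponents
  haveI : Finite G := hGfin.to_subtype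
  have hGV : ∀ η : G, η.1 ∈ V := by
    intro η
    let Ω : Set Y := (⋃ Z ∈ (irreducibleComponents (Y : Type u) \ {closure {η.1}}), Z)ᶜ
    have hΩo : IsOpen Ω := ((NoetherianSpace.finite_irreducibleComponents.subset Set.diff_subset).isClosed_biUnion
      fun Z hZ => isClosed_of_mem_irreducibleComponents Z hZ.1).isOpen_compl
    have hηΩ : η.1 ∈ Ω := by
      intro hmem
      obtain ⟨Z, ⟨hZ, hne⟩, hηZ⟩ := Set.mem_iUnion₂.mp hmem
      have hsub : closure ({η.1} : Set Y) ⊆ Z :=
        closure_minimal (Set.singleton_subset_iff.mpr hηZ) (isClosed_of_mem_irreducibleComponents Z hZ)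
      exact hne (Set.Subset.antisymm (η.2.2 hZ.1 hsub) hsub)
    obtain ⟨z, hzΩ, hzV⟩ := hV.inter_open_nonempty Ω hΩo ⟨η.1, hηΩ⟩
    obtain ⟨Z, hZ, hzZ⟩ : ∃ Z ∈ irreducibleComponents (Y : Type u), z ∈ Z :=
      ⟨_, irreducibleComponent_mem_irreducibleComponents z, mem_irreducibleComponent⟩
    have hZη : Z = closure {η.1} := by
      by_contra h
      exact hzΩ (Set.mem_iUnion₂.mpr ⟨Z, ⟨hZ, h⟩, hzZ⟩)
    exact (specializes_iff_mem_closure.mpr (hZη ▸ hzZ)).mem_open V.2 hzV
  have hexW : ∀ η : G, ∃ (W : Y.Opens) (e : Γ(L, f ⁻¹ᵁ W)), η.1 ∈ W ∧ W ≤ V ∧ IsGen L (f ⁻¹ᵁ W) e ∧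
      ∀ η' ∈ G, η' ∈ W → η' = η.1 := by
    intro η
    obtain ⟨D, e, hD, he⟩ := exists_frame_over f hL η.1
    let Ω : Y.Opens := ⟨(⋃ η' ∈ (G \ {η.1}), closure ({η'} : Set Y))ᶜ,
      ((hGfin.subset Set.diff_subset).isClosed_biUnion fun _ _ => isClosed_closure).isOpen_compl⟩
    have hΩ : η.1 ∈ Ω := by
      intro hmem
      obtain ⟨η', ⟨hη', hne⟩, h⟩ := Set.mem_iUnion₂.mp hmem
      have hle : closure ({η.1} : Set Y) ≤ closure {η'} :=
        closure_minimal (Set.singleton_subset_iff.mpr h) isClosed_closure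
      have : closure ({η.1} : Set Y) = closure {η'} :=
        le_antisymm hle (η.2.2 isIrreducible_singleton.closure hle)
      exact hne (Inseparable.eq ((inseparable_iff_closure_eq).mpr this)).symm
    refine ⟨D ⊓ V ⊓ Ω, mres L (f.preimage_mono (inf_le_left.trans inf_le_left)) e, ⟨⟨hD, hGV η⟩, hΩ⟩,
      inf_le_left.trans inf_le_right, he.restrict _, fun η' hη' hmem => ?_⟩
    by_contra hne
    exact hmem.2 (Set.mem_iUnion₂.mpr ⟨η', ⟨hη', hne⟩, subset_closure rfl⟩)
  choose W eW hηW hWV heW hWuniq using hexW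
  have hgenspec : ∀ z : Y, ∃ η : G, η.1 ⤳ z := fun z => by
    obtain ⟨η, hη⟩ := QuasiSober.sober
      (irreducibleComponent_mem_irreducibleComponents z).1 (isClosed_irreducibleComponent (x := z))
    refine ⟨⟨η, ?_⟩, hη.specializes mem_irreducibleComponent⟩
    show closure {η} ∈ irreducibleComponents (Y : Type u)
    rw [hη.def]; exact irreducibleComponent_mem_irreducibleComponents z
  have hdisj : ∀ η η' : G, η ≠ η' → W η ⊓ W η' ≤ ⊥ := by
    intro η η' hne z hz
    obtain ⟨ζ, hζ⟩ := hgenspec z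
    exact hne (Subtype.ext ((hWuniq η ζ ζ.2 (hζ.mem_open (W η).2 hz.1)).symm.trans
      (hWuniq η' ζ ζ.2 (hζ.mem_open (W η').2 hz.2))))
  let V' : Y.Opens := ⨆ η, W η
  have hGV' : ∀ η : G, η.1 ∈ V' := fun η => Opens.mem_iSup.mpr ⟨η, hηW η⟩
  have hclosed : ∀ z : Y, z ∉ G → IsClosed ({z} : Set Y) := fun z hz =>
    GrothLib.Euler.isClosed_singleton_of_notMem_genericPoints hdim hz
  -- frame over `V'`
  obtain ⟨eV, heVres, -⟩ := TopCat.Sheaf.existsUnique_gluing' ⟨L.presheaf, L.isSheaf⟩ (fun η => f ⁻¹ᵁ W η)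
    (f ⁻¹ᵁ V') (fun η => homOfLE (f.preimage_mono (le_iSup W η))) (le_of_eq (Scheme.Hom.preimage_iSup f W))
    eW fun η η' => by
      rcases eq_or_ne η η' with rfl | h
      · rfl
      · haveI := subsingleton_sections_of_le_bot L (W := f ⁻¹ᵁ W η ⊓ f ⁻¹ᵁ W η')
          (fun x hx => hdisj η η' h (show f.base x ∈ W η ⊓ W η' from hx))
        exact Subsingleton.elim (α := Γ(L, f ⁻¹ᵁ W η ⊓ f ⁻¹ᵁ W η')) _ _
  have heV : IsGen L (f ⁻¹ᵁ V') eV :=
    InvExt.isGen_of_cover (fun η => f ⁻¹ᵁ W η) (fun η => f.preimage_mono (le_iSup W η))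
      (le_of_eq (Scheme.Hom.preimage_iSup f W)) fun η => by
        rw [show mres L (f.preimage_mono (le_iSup W η)) eV = eW η from heVres η]; exact heW η
  -- data at a point off `V'`
  have hexD : ∀ y : {y : Y // y ∉ V'}, ∃ (D : Y.Opens) (e : Γ(L, f ⁻¹ᵁ D)) (t : Γ(Y, D ⊓ V')),
      y.1 ∈ D ∧ IsGen L (f ⁻¹ᵁ D) e ∧ (∀ z ∈ D, z ∈ V' ∨ z = y.1) ∧ IsUnit t ∧
      mres L (f.preimage_mono (inf_le_right : D ⊓ V' ≤ V')) eV =
        (f.app (D ⊓ V')).hom t • mres L (f.preimage_mono (inf_le_left : D ⊓ V' ≤ D)) e := by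
    intro y
    obtain ⟨D, e, hyD, he⟩ := exists_frame_over f hL y.1
    have hlift : ∀ η : G, ∃ (O : Y.Opens) (h : O ≤ W η) (t : Γ(Y, D ⊓ O)), η.1 ∈ O ∧ IsUnit t ∧
        mres L (f.preimage_mono ((inf_le_right : D ⊓ O ≤ O).trans h)) (eW η) =
          (f.app (D ⊓ O)).hom t • mres L (f.preimage_mono (inf_le_left : D ⊓ O ≤ D)) e := by
      intro η
      by_cases hηD : η.1 ∈ D
      · obtain ⟨r, hr⟩ := he.exists_smul_eq (f.preimage_mono (inf_le_left : D ⊓ W η ≤ D))
          (mres L (f.preimage_mono (inf_le_right : D ⊓ W η ≤ W η)) (eW η))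
        obtain ⟨r', hr'⟩ := (heW η).exists_smul_eq (f.preimage_mono (inf_le_right : D ⊓ W η ≤ W η))
          (mres L (f.preimage_mono (inf_le_left : D ⊓ W η ≤ D)) e)
        have hru : IsUnit r := IsUnit.of_mul_eq_one r' <|
          (heW η).smul_left_injective (f.preimage_mono (inf_le_right : D ⊓ W η ≤ W η))
            (by rw [mul_smul, ← hr', ← hr, one_smul])
        obtain ⟨O', hle, t, hηO, htu, ht⟩ := exists_unit_lift f (V := V) (O := D ⊓ W η) ⟨hηD, hηW η⟩
          (inf_le_right.trans (hWV η)) r hru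
        refine ⟨O', hle.trans inf_le_right, res inf_le_right t, hηO, htu.map _, ?_⟩
        have h1 := congrArg (mres L (f.preimage_mono ((inf_le_right : D ⊓ O' ≤ O').trans hle))) hr
        rw [InvExt.mres_mres, InvExt.mres_smul, InvExt.mres_mres] at h1
        refine h1.trans (congrArg (· • _) ?_)
        refine Eq.trans ?_ (ConcreteCategory.congr_hom (f.naturality (homOfLE (inf_le_right : D ⊓ O' ≤ O')).op) t).symm
        show _ = res (f.preimage_mono inf_le_right) ((f.app O').hom t)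
        rw [ht, Ample.res_res]
      · refine ⟨W η, le_rfl, 1, hηW η, isUnit_one, ?_⟩
        haveI := subsingleton_sections_of_le_bot L (W := f ⁻¹ᵁ (D ⊓ W η)) (fun x hx => by
          obtain ⟨ζ, hζ⟩ := hgenspec (f.base x)
          exact (hηD (hWuniq η ζ ζ.2 (hζ.mem_open (W η).2 hx.2) ▸ hζ.mem_open D.2 hx.1)).elim)
        exact Subsingleton.elim _ _
    choose O hOW t hηO htu ht using hlift
    let Z : Set Y := ((⨆ η, O η : Y.Opens) : Set Y)ᶜ
    have hZcl : IsClosed Z := (⨆ η, O η : Y.Opens).2.isClosed_compl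
    have hZpts : ∀ z ∈ Z, IsClosed ({z} : Set Y) := fun z hz => hclosed z fun hzG =>
      hz (Opens.mem_iSup.mpr ⟨⟨z, hzG⟩, hηO ⟨z, hzG⟩⟩)
    have hZfin : Z.Finite := GrothLib.Euler.finite_of_closed_points hZcl hZpts
    have hPcl : IsClosed (Z \ {y.1}) := by
      rw [← Set.biUnion_of_singleton (Z \ {y.1})]
      exact (hZfin.subset Set.diff_subset).isClosed_biUnion fun z hz => hZpts z hz.1
    let D' : Y.Opens := D ⊓ ⟨(Z \ {y.1})ᶜ, hPcl.isOpen_compl⟩
    have hD' : ∀ z ∈ D', z = y.1 ∨ ∃ η, z ∈ O η := fun z hz => by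
      by_cases hzy : z = y.1
      · exact Or.inl hzy
      · refine Or.inr (Opens.mem_iSup.mp ?_)
        by_contra h
        exact hz.2 ⟨h, hzy⟩
    have hle : ∀ η, D' ⊓ O η ≤ D' ⊓ V' := fun η => inf_le_inf_left _ ((hOW η).trans (le_iSup W η))
    have hcov : D' ⊓ V' ≤ ⨆ η, D' ⊓ O η := fun z hz => by
      rcases hD' z hz.1 with h | ⟨η, h⟩
      · exact absurd (h ▸ hz.2 : y.1 ∈ V') y.2
      · exact Opens.mem_iSup.mpr ⟨η, hz.1, h⟩
    have hdO : ∀ η η', η ≠ η' → (D' ⊓ O η) ⊓ (D' ⊓ O η') ≤ ⊥ := fun η η' h z hz =>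
      hdisj η η' h ⟨hOW η hz.1.2, hOW η' hz.2.2⟩
    have hDD : ∀ η, D' ⊓ O η ≤ D ⊓ O η := fun η => inf_le_inf_right _ inf_le_left
    obtain ⟨s, hs⟩ := exists_glue_of_disjoint (fun η => D' ⊓ O η) (D' ⊓ V') hle hcov hdO
      fun η => res (hDD η) (t η)
    refine ⟨D', mres L (f.preimage_mono inf_le_left) e, s, ⟨hyD, fun h => h.2 rfl⟩, he.restrict _,
      fun z hz => ?_, ?_, ?_⟩
    · rcases hD' z hz with h | ⟨η, h⟩
      · exact Or.inr h
      · exact Or.inl (Opens.mem_iSup.mpr ⟨η, hOW η h⟩)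
    · refine Y.toRingedSpace.isUnit_of_isUnit_germ (D' ⊓ V') s fun z hz => ?_
      obtain ⟨η, hη⟩ := Opens.mem_iSup.mp (hcov hz)
      rw [show Y.presheaf.germ (D' ⊓ V') z hz s = Y.presheaf.germ (D' ⊓ O η) z hη (res (hle η) s) from
        (Y.presheaf.germ_res_apply (homOfLE (hle η)) z hη s).symm, hs η]
      exact ((htu η).map _).map _
    · refine GrothLib.Ample.meq_of_cover L (fun η => f ⁻¹ᵁ (D' ⊓ O η)) (fun η => f.preimage_mono (hle η))
        ((f.preimage_mono hcov).trans (le_of_eq (Scheme.Hom.preimage_iSup f _))) fun η => ?_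
      rw [InvExt.mres_mres, InvExt.mres_smul, InvExt.mres_mres, InvExt.mres_mres]
      have h1 := congrArg (mres L (f.preimage_mono (hDD η))) (ht η)
      rw [InvExt.mres_mres, InvExt.mres_smul, InvExt.mres_mres, ← heVres η] at h1
      change mres L _ (mres L (f.preimage_mono (le_iSup W η)) eV) = _ at h1
      rw [InvExt.mres_mres] at h1
      refine h1.trans (congrArg (· • _) ?_)
      refine (ConcreteCategory.congr_hom (f.naturality (homOfLE (hDD η)).op) (t η)).symm.trans ?_
      refine Eq.trans ?_ (ConcreteCategory.congr_hom (f.naturality (homOfLE (hle η)).op) s)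
      exact congrArg (f.app _).hom (hs η).symm
  choose D eD tD hyD heD hDsub htD hteq using hexD
  -- the cocycle
  let ι' := Option {y : Y // y ∉ V'}
  let Di : ι' → Y.Opens := fun i => i.elim V' D
  have hle : ∀ i k : ι', i ≠ k → Di i ⊓ Di k ≤ V' := by
    rintro (_ | y) (_ | y') hne z hz
    · exact absurd rfl hne
    · exact hz.1
    · exact hz.2
    · rcases hDsub y z hz.1 with h | h
      · exact h
      · rcases hDsub y' z hz.2 with h' | h'
        · exact h'
        · exact absurd (congrArg some (Subtype.ext (h.symm.trans h'))) hne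
  -- units `u i` with `eV = u i • e i` on `Di i ⊓ V'`
  have hdata : ∀ i : ι', ∃ (e : Γ(L, f ⁻¹ᵁ Di i)) (u : Γ(Y, Di i ⊓ V')), IsGen L (f ⁻¹ᵁ Di i) e ∧ IsUnit u ∧
      mres L (f.preimage_mono (inf_le_right : Di i ⊓ V' ≤ V')) eV =
        (f.app (Di i ⊓ V')).hom u • mres L (f.preimage_mono (inf_le_left : Di i ⊓ V' ≤ Di i)) e := by
    rintro (_ | y)
    · exact ⟨eV, 1, heV, isUnit_one, by rw [map_one, one_smul]; rfl⟩
    · exact ⟨eD y, tD y, heD y, htD y, hteq y⟩
  choose e u he hu hue using hdata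
  have hue' : ∀ i (T : Y.Opens) (hi : T ≤ Di i) (hT : T ≤ V'),
      mres L (f.preimage_mono hT) eV = (f.app T).hom (res (le_inf hi hT) (u i)) • mres L (f.preimage_mono hi) (e i) := by
    intro i T hi hT
    have h := congrArg (mres L (f.preimage_mono (le_inf hi hT))) (hue i)
    rw [InvExt.mres_mres, InvExt.mres_smul, InvExt.mres_mres] at h
    refine h.trans (congrArg (· • _) ?_)
    exact (ConcreteCategory.congr_hom (f.naturality (homOfLE (le_inf hi hT)).op) (u i)).symm
  let g : ∀ i k : ι', Γ(Y, Di i ⊓ Di k) := fun i k =>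
    if h : i = k then 1 else
      res (le_inf inf_le_left (hle i k h)) (u i) *
        res (le_inf inf_le_right (hle i k h)) (↑(hu k).unit⁻¹ : Γ(Y, Di k ⊓ V'))
  have hgres : ∀ i k (T : Y.Opens) (hi : T ≤ Di i) (hk : T ≤ Di k) (hT : T ≤ V'),
      res (le_inf hi hk) (g i k) * res (le_inf hk hT) (u k) = res (le_inf hi hT) (u i) := by
    intro i k T hi hk hT
    by_cases h : i = k
    · subst h
      simp only [g, dif_pos, map_one, one_mul]
    · simp only [g, dif_neg h]
      rw [map_mul, Ample.res_res, Ample.res_res, mul_assoc, ← map_mul, IsUnit.val_inv_mul, map_one, mul_one]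
  let c : Cocycle Y :=
    { ι := ι'
      D := Di
      g := g
      cover := eq_top_iff.mpr fun y _ => by
        by_cases hy : y ∈ V'
        · exact Opens.mem_iSup.mpr ⟨none, hy⟩
        · exact Opens.mem_iSup.mpr ⟨some ⟨y, hy⟩, hyD ⟨y, hy⟩⟩
      self := fun i T h => by simp only [g, dif_pos, map_one]
      change := fun i j k T hi hj hk => by
        by_cases hall : i = j ∧ j = k
        · obtain ⟨rfl, rfl⟩ := hall
          simp only [g, dif_pos, map_one, mul_one]
        · have hTV : T ≤ V' := by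
            rcases not_and_or.mp hall with h | h
            · exact (le_inf hi hj).trans (hle i j h)
            · exact (le_inf hj hk).trans (hle j k h)
          refine ((hu k).map (res (le_inf hk hTV))).mul_right_cancel ?_
          rw [hgres i k T hi hk hTV, mul_assoc, hgres j k T hj hk hTV, hgres i j T hi hj hTV] }
  refine exists_descend f c e he fun i k => ?_
  by_cases h : i = k
  · subst h
    show _ = (f.app _).hom (g i i) • _
    simp only [g, dif_pos, map_one, one_smul]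
  · have hTV : Di i ⊓ Di k ≤ V' := hle i k h
    have h1 := hue' i _ inf_le_left hTV
    have h2 := hue' k _ inf_le_right hTV
    have huk : IsUnit ((f.app (Di i ⊓ Di k)).hom (res (le_inf inf_le_right hTV) (u k))) :=
      ((hu k).map _).map _
    apply huk.smul_left_cancel.mp
    rw [← h2, smul_smul, ← map_mul, mul_comm]
    refine h1.trans (congrArg (fun a => (f.app _).hom a • _) ?_)
    have := hgres i k (Di i ⊓ Di k) inf_le_left inf_le_right hTV
    rw [Ample.res_self] at this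
    exact this.symm

end GrothLib.PicDesc
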